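import Mathlib
import Cfsg.Agent.ClassSizes.CoprimeProduct
import Cfsg.Agent.CN.Basic

/-!
Simple groups with exactly three sizes of nontrivial classes: elementary consequences.
-/

set_option autoImplicit false
set_option linter.unusedSectionVars false

namespace CfsgLib.RankThree

open CfsgLib.TwoSizes (cen mem_cen)
open CfsgLib.CoprimeLargest (idx idx_conj)

/-- A nonabelian simple group with three sizes of nontrivial classes. -/
structure Hyp (G : Type*) [Group G] : Prop where
  simple : IsSimpleGroup G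
  na : ¬ IsMulCommutative G
  three : Set.ncard {m : ℕ | ∃ x : G, x ∉ Subgroup.center G ∧
    m = (Subgroup.centralizer ({x} : Set G)).index} = 3

variable {G : Type*} [Group G] [Finite G]

namespace Hyp

variable (h : Hyp G)
include h

theorem center_eq_bot : Subgroup.center G = ⊥ := by
  haveI := h.simple
  refine (inferInstance : (Subgroup.center G).Normal).eq_bot_or_eq_top.resolve_right fun ht => h.na ?_
  exact ⟨⟨fun a b => Subgroup.mem_center_iff.1 (ht ▸ Subgroup.mem_top b) a⟩⟩

theorem not_mem_center {x : G} (hx : x ≠ 1) : x ∉ Subgroup.center G := by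
  rwa [h.center_eq_bot, Subgroup.mem_bot]

theorem cen_ne_top {x : G} (hx : x ≠ 1) : cen x ≠ ⊤ := fun ht =>
  h.not_mem_center hx (Subgroup.mem_center_iff.2 fun g => mem_cen.1 (ht ▸ Subgroup.mem_top g))

theorem one_lt_idx {x : G} (hx : x ≠ 1) : 1 < idx x :=
  Subgroup.one_lt_index_of_ne_top (h.cen_ne_top hx)

theorem idx_set : {m : ℕ | ∃ x : G, x ∉ Subgroup.center G ∧
    m = (Subgroup.centralizer ({x} : Set G)).index} = {m | ∃ x : G, x ≠ 1 ∧ m = idx x} := by
  ext m
  simp only [Set.mem_ofPred_eq, h.center_eq_bot, Subgroup.mem_bot]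

/-- Two different sizes leave exactly one more. -/
theorem exists_third {x y : G} (hx : x ≠ 1) (hy : y ≠ 1) (hne : idx x ≠ idx y) :
    ∃ w : G, w ≠ 1 ∧ idx w ≠ idx x ∧ idx w ≠ idx y ∧
      ∀ z : G, z ≠ 1 → idx z = idx x ∨ idx z = idx y ∨ idx z = idx w := by
  have h3 := h.three
  rw [h.idx_set] at h3
  obtain ⟨a, b, c, hab, hac, hbc, he⟩ := Set.ncard_eq_three.1 h3
  have hm : ∀ z : G, z ≠ 1 → idx z = a ∨ idx z = b ∨ idx z = c := fun z hz => by
    have : idx z ∈ ({a, b, c} : Set ℕ) := he ▸ ⟨z, hz, rfl⟩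
    simpa using this
  have hr : ∀ m, (m = a ∨ m = b ∨ m = c) → ∃ w : G, w ≠ 1 ∧ idx w = m := fun m hm => by
    have : m ∈ {m : ℕ | ∃ x : G, x ≠ 1 ∧ m = idx x} := by rw [he]; simpa using hm
    obtain ⟨w, hw, rfl⟩ := this
    exact ⟨w, hw, rfl⟩
  have hxm := hm x hx
  have hym := hm y hy
  obtain ⟨m, hm1, hm2, hm3⟩ : ∃ m, (m = a ∨ m = b ∨ m = c) ∧ m ≠ idx x ∧ m ≠ idx y := by
    by_cases h1 : a ≠ idx x ∧ a ≠ idx y
    · exact ⟨a, Or.inl rfl, h1⟩
    by_cases h2 : b ≠ idx x ∧ b ≠ idx y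
    · exact ⟨b, Or.inr (Or.inl rfl), h2⟩
    by_cases h3 : c ≠ idx x ∧ c ≠ idx y
    · exact ⟨c, Or.inr (Or.inr rfl), h3⟩
    omega
  obtain ⟨w, hw, rfl⟩ := hr m hm1
  refine ⟨w, hw, hm2, hm3, fun z hz => ?_⟩
  have := hm z hz
  omega

/-- A nontrivial class contains a pair of noncommuting elements with any given element. -/
theorem exists_not_commute {a b : G} (ha : a ≠ 1) (hb : b ≠ 1) :
    ∃ g : G, ¬ Commute a (g * b * g⁻¹) := by
  by_contra! hall
  haveI := h.simple
  have hle : Subgroup.normalClosure ({b} : Set G) ≤ cen a := by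
    refine Subgroup.closure_le _ |>.2 fun v hv => ?_
    obtain ⟨s, hs, hc⟩ := Group.mem_conjugatesOfSet_iff.1 hv
    obtain rfl : s = b := hs
    obtain ⟨g, rfl⟩ := isConj_iff.1 hc
    exact mem_cen.2 (hall g).symm.eq
  rcases (inferInstance : (Subgroup.normalClosure ({b} : Set G)).Normal).eq_bot_or_eq_top with hn | hn
  · exact hb (Subgroup.mem_bot.1 (hn ▸ Subgroup.subset_normalClosure rfl))
  · exact h.cen_ne_top ha (eq_top_iff.2 (hn ▸ hle))

/-- Elements with coprime class sizes do not commute, and neither do their conjugates. -/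
theorem not_commute_of_coprime {a b : G} (ha : a ≠ 1) (hb : b ≠ 1)
    (hcop : (idx a).Coprime (idx b)) : ¬ Commute a b := by
  intro hab
  obtain ⟨g, hg⟩ := h.exists_not_commute ha hb
  obtain ⟨c, hc, d, hd, rfl⟩ := CfsgLib.Product.exists_mul_of_coprime_index
    (H := cen a) (K := cen b) hcop g
  refine hg ?_
  have e : c * d * b * (c * d)⁻¹ = c * b * c⁻¹ := by
    calc c * d * b * (c * d)⁻¹ = c * (d * b) * d⁻¹ * c⁻¹ := by group
      _ = c * (b * d) * d⁻¹ * c⁻¹ := by rw [mem_cen.1 hd]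
      _ = _ := by group
  rw [e]
  have hca : Commute c a := mem_cen.1 hc
  exact (hca.symm.mul_right hab).mul_right hca.symm.inv_right

end Hyp

/-- Every `r`-subgroup is centralized by an element of order `r` whose class size is prime to `r`. -/
theorem exists_central_in_sylow {r : ℕ} [Fact r.Prime] {R : Subgroup G} (hR : IsPGroup r R)
    (hr : r ∣ Nat.card G) : ∃ z : G, orderOf z = r ∧ R ≤ cen z ∧ ¬ r ∣ idx z := by
  obtain ⟨P, hP⟩ := hR.exists_le_sylow
  haveI : Nontrivial (P : Subgroup G) :=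
    (Subgroup.nontrivial_iff_ne_bot _).2 (Sylow.ne_bot_of_dvd_card P hr)
  haveI := P.2.center_nontrivial
  haveI : Nontrivial (Subgroup.center (P : Subgroup G)) := P.2.center_nontrivial
  have hd : r ∣ Nat.card (Subgroup.center (P : Subgroup G)) := by
    obtain ⟨k, hk, he⟩ := (IsPGroup.nontrivial_iff_card (P.2.to_subgroup (Subgroup.center (P : Subgroup G)))).1
      inferInstance
    exact he ▸ dvd_pow_self r hk.ne'
  obtain ⟨⟨⟨z, hzP⟩, hzc⟩, hz⟩ := exists_prime_orderOf_dvd_card' r hd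
  have hz' : orderOf z = r := by
    rw [← hz, ← Subgroup.orderOf_coe, ← Subgroup.orderOf_coe]
  have hle : (P : Subgroup G) ≤ cen z := fun g hg =>
    mem_cen.2 (congrArg Subtype.val (Subgroup.mem_center_iff.1 hzc ⟨g, hg⟩))
  exact ⟨z, hz', hP.trans hle,
    fun hd => P.not_dvd_index (hd.trans (Subgroup.index_dvd_of_le hle))⟩

theorem isPGroup_zpowers {r : ℕ} {z : G} (hz : orderOf z = r) :
    IsPGroup r (Subgroup.zpowers z) := CfsgLib.CN.zpowers_isPGroup_of_orderOf_eq hz

/-- The centralizer of a power contains the centralizer. -/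
theorem cen_le_cen_pow (x : G) (k : ℕ) : cen x ≤ cen (x ^ k) := fun _ hg =>
  mem_cen.2 ((show Commute _ x from mem_cen.1 hg).pow_right k).eq

theorem idx_dvd_of_le {a b : G} (h : cen a ≤ cen b) : idx b ∣ idx a := Subgroup.index_dvd_of_le h

theorem cen_eq_of_le_of_idx {a b : G} (h : cen a ≤ cen b) (he : idx a = idx b) : cen a = cen b :=
  Subgroup.eq_of_le_of_card_ge h (by
    have h1 := Subgroup.card_mul_index (cen a)
    have h2 := Subgroup.card_mul_index (cen b)
    change Nat.card (cen a) * idx a = _ at h1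
    rw [he, ← h2] at h1
    exact (Nat.eq_of_mul_eq_mul_right (Nat.pos_of_ne_zero Subgroup.index_ne_zero_of_finite) h1).ge)

theorem card_mul_idx (a : G) : Nat.card (cen a) * idx a = Nat.card G := Subgroup.card_mul_index _

theorem cen_mul_eq_inf {x y : G} (hxy : Commute x y) (hcop : (orderOf x).Coprime (orderOf y)) :
    cen (x * y) = cen x ⊓ cen y := by
  refine le_antisymm (le_inf (CfsgLib.TwoSizes.cen_mul_le hxy hcop) ?_) fun g hg => ?_
  · rw [hxy.eq]; exact CfsgLib.TwoSizes.cen_mul_le hxy.symm hcop.symm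
  · exact mem_cen.2 (Commute.mul_right (mem_cen.1 hg.1 : Commute g x) (mem_cen.1 hg.2 : Commute g y)).eq

theorem mul_ne_one_of_coprime {x y : G} (hxy : Commute x y) (hcop : (orderOf x).Coprime (orderOf y))
    (hx : x ≠ 1) : x * y ≠ 1 := fun h => by
  have h1 := hxy.orderOf_mul_eq_mul_orderOf_of_coprime hcop
  rw [h, orderOf_one] at h1
  exact hx (orderOf_eq_one_iff.1 (Nat.eq_one_of_mul_eq_one_right h1.symm))

end CfsgLib.RankThree
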