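import Mathlib
import Cfsg.Agent.RankThree.Contain
import Cfsg.Agent.CATheorem.CNTheorem
import Cfsg.Agent.CAGroups.SimpleAbelianCentralizers

/-!
Simple groups with three class sizes: involution centralizers are abelian and the order is even.
-/

set_option autoImplicit false
set_option linter.unusedSectionVars false

namespace CfsgLib.RankThree

open CfsgLib.TwoSizes (cen mem_cen)
open CfsgLib.CoprimeLargest (idx)

universe u

variable {G : Type u} [Group G] [Finite G]

theorem cen_pow_eq (h : Hyp G) {x : G} {k : ℕ} (hk : x ^ k ≠ 1) : cen x = cen (x ^ k) :=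
  cen_eq_of_le h (fun hx => hk (by rw [hx, one_pow])) hk (cen_le_cen_pow x k)

theorem cen_eq_of_coprime (h : Hyp G) {x y : G} (hx : x ≠ 1) (hy : y ≠ 1) (hxy : Commute x y)
    (hcop : (orderOf x).Coprime (orderOf y)) : cen x = cen y := by
  have hinf := cen_mul_eq_inf hxy hcop
  have h1 := mul_ne_one_of_coprime hxy hcop hx
  exact (cen_eq_of_le h h1 hx (hinf.le.trans inf_le_left)).symm.trans
    (cen_eq_of_le h h1 hy (hinf.le.trans inf_le_right))

theorem cen_isMulCommutative_of_involution (h : Hyp G) {t : G} (ht : orderOf t = 2) :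
    IsMulCommutative (cen t) := by
  have ht1 : t ≠ 1 := fun e => by rw [e, orderOf_one] at ht; omega
  have ht2 : t * t = 1 := by rw [← pow_two, ← ht, pow_orderOf_eq_one]
  -- an element of order at least four and a commuting involution have the same centralizer
  have key : ∀ a x : G, a * a ≠ 1 → x * x = 1 → x ≠ 1 → Commute a x → cen a = cen x := by
    intro a x ha hx hx1 hax
    have hsq : (x * a) ^ 2 = a ^ 2 := by rw [hax.symm.mul_pow, pow_two x, hx, one_mul]
    have ha2 : a ^ 2 ≠ 1 := by rwa [pow_two]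
    have e1 : cen (x * a) = cen a := by
      rw [cen_pow_eq h (x := x * a) (k := 2) (hsq ▸ ha2), hsq, ← cen_pow_eq h ha2]
    refine cen_eq_of_le h (fun e => ha (by rw [e, one_mul])) hx1 fun g hg => mem_cen.2 ?_
    have h1 : Commute g (x * a) := mem_cen.1 (e1.symm ▸ hg)
    have h2 : Commute g a := mem_cen.1 hg
    simpa using (h1.mul_right h2.inv_right).eq
  refine ⟨⟨fun g k => Subtype.ext ?_⟩⟩
  show (g : G) * k = k * g
  have hgt : Commute (g : G) t := mem_cen.1 g.2
  have hkt : Commute (k : G) t := mem_cen.1 k.2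
  by_cases hg : (g : G) * g = 1
  · by_cases hk : (k : G) * k = 1
    · by_cases hgk : (g : G) * k * ((g : G) * k) = 1
      · have := eq_inv_of_mul_eq_one_left hgk
        rw [this, mul_inv_rev, inv_eq_of_mul_eq_one_right hg, inv_eq_of_mul_eq_one_right hk]
      · have e := key _ t hgk ht2 ht1 (hgt.mul_left hkt)
        have h1 : (g : G) ∈ cen ((g : G) * k) := by rw [e]; exact g.2
        have h2 := mem_cen.1 h1
        rw [mul_assoc (g : G) k g] at h2
        exact mul_left_cancel h2
    · have e := key _ t hk ht2 ht1 hkt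
      have h1 : (g : G) ∈ cen (k : G) := by rw [e]; exact g.2
      exact mem_cen.1 h1
  · have e := key _ t hg ht2 ht1 hgt
    have h1 : (k : G) ∈ cen (g : G) := by rw [e]; exact k.2
    exact (mem_cen.1 h1).symm

theorem isCNGroup (h : Hyp G) : Cfsg.IsCNGroup G := by
  intro g hg
  obtain ⟨r, hr, -, k, hk⟩ := CfsgLib.CN.exists_prime_power hg
  have hx1 : g ^ k ≠ 1 := fun e => hr.ne_one (by rw [← hk, e, orderOf_one])
  rw [show Subgroup.centralizer ({g} : Set G) = cen (g ^ k) from cen_pow_eq h hx1]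
  generalize hxdef : g ^ k = x at hk hx1
  clear hxdef hg
  haveI := Fact.mk hr
  by_cases hv : ∃ v ∈ cen x, (orderOf v).Prime ∧ orderOf v ≠ r
  · obtain ⟨v, hv, hvp, hvr⟩ := hv
    have hv1 : v ≠ 1 := fun e => hvp.ne_one (by rw [e, orderOf_one])
    have hvx : cen v = cen x := cen_eq_of_coprime h hv1 hx1 (mem_cen.1 hv)
      (by rw [hk]; exact (Nat.coprime_primes hvp hr).2 hvr)
    have hall : ∀ w ∈ cen x, w ≠ 1 → cen w = cen x := by
      intro w hw hw1
      obtain ⟨s, hs, -, l, hl⟩ := CfsgLib.CN.exists_prime_power hw1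
      have hl1 : w ^ l ≠ 1 := fun e => hs.ne_one (by rw [← hl, e, orderOf_one])
      rw [cen_pow_eq h hl1]
      by_cases hsr : s = r
      · rw [← hvx]
        exact cen_eq_of_coprime h hl1 hv1 (mem_cen.1 (hvx.symm ▸ pow_mem hw l))
          (by rw [hl, hsr]; exact (Nat.coprime_primes hr hvp).2 hvr.symm)
      · exact cen_eq_of_coprime h hl1 hx1 (mem_cen.1 (pow_mem hw l))
          (by rw [hl, hk]; exact (Nat.coprime_primes hs hr).2 hsr)
    have hc : IsMulCommutative (cen x) := ⟨⟨fun a b => Subtype.ext (by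
      show (a : G) * b = b * a
      by_cases hb : (b : G) = 1
      · simp [hb]
      · exact mem_cen.1 (show (a : G) ∈ cen (b : G) by rw [hall _ b.2 hb]; exact a.2))⟩⟩
    haveI := hc
    letI : CommGroup (cen x) := { (inferInstance : Group (cen x)) with mul_comm := fun a b => mul_comm' a b }
    exact CommGroup.isNilpotent
  · push Not at hv
    have hp : IsPGroup r (cen x) := by
      refine IsPGroup.of_card (n := (Nat.card (cen x)).primeFactorsList.length) ?_
      refine Nat.eq_prime_pow_of_unique_prime_dvd Nat.card_pos.ne' fun {d} hd hdd => ?_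
      haveI := Fact.mk hd
      obtain ⟨v, hv'⟩ := exists_prime_orderOf_dvd_card' d hdd
      have := hv v v.2 (by rwa [Subgroup.orderOf_coe, hv'])
      rwa [Subgroup.orderOf_coe, hv'] at this
    exact hp.isNilpotent

theorem even_card (h : Hyp G) : Even (Nat.card G) := by
  by_contra hodd
  haveI := h.simple
  haveI := CfsgLib.CATheorem.cn_theorem _ G rfl (Nat.not_even_iff_odd.1 hodd) (isCNGroup h)
  exact h.na ⟨⟨IsSimpleGroup.comm_iff_isSolvable.2 inferInstance⟩⟩

theorem exists_mulEquiv_psl (h : Hyp G) :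
    ∃ (m : ℕ) (F : Type) (_ : Field F) (_ : Fintype F), 2 ≤ m ∧ Fintype.card F = 2 ^ m ∧
      Nonempty (G ≃* Matrix.ProjectiveSpecialLinearGroup (Fin 2) F) := by
  haveI := h.simple
  obtain ⟨F, iF, iF', f, hc, hf, hcard, ⟨e⟩⟩ := CfsgLib.CAGroups.simple_mulEquiv_sl2 h.na (even_card h)
    fun t ht => cen_isMulCommutative_of_involution h ht
  exact ⟨f, F, iF, iF', hf, hcard, ⟨e.trans (CfsgLib.CAGroups.mulEquivPslOfSl2 F)⟩⟩

end CfsgLib.RankThree
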